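import Groth.Agent.HopfGalois.Galois
import Groth.Agent.GrpSchLib.OrbitImmersion
import Groth.Prelude.Def_CoactBr
import Groth.Prelude.Def_GLin2
import Groth.Prelude.Def_RedSub
import Mathlib.Algebra.Category.Ring.Constructions
import Mathlib.RingTheory.Flat.FaithfullyFlat.Algebra

/-!
# Quotients of affine groups by linearly reductive subgroups are affine
-/

universe u

open CategoryTheory MonoidalCategory CartesianMonoidalCategory AlgebraicGeometry MonObj Opposite
open TensorProduct

namespace Groth.Agent.HopfGalois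

attribute [local instance] CoactBr.braidedAlgSpecOf

open ComodLib HopfRep

variable {k : Type u} [Field k] {AG AH : Type u} [CommRing AG] [HopfAlgebra k AG]
  [CommRing AH] [HopfAlgebra k AH] (ψ : AG →ₐc[k] AH)

/-- The coaction of the subgroup on the group. -/
noncomputable def rho : AG →ₐ[k] AG ⊗[k] AH :=
  (Algebra.TensorProduct.map (AlgHom.id k AG) (ψ : AG →ₐ[k] AH)).comp (Bialgebra.comulAlgHom k AG)

open Algebra.TensorProduct in
theorem map_eq_lift : Algebra.TensorProduct.map (AlgHom.id k AG) (ψ : AG →ₐ[k] AH) =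
    Algebra.TensorProduct.lift includeLeft ((includeRight : AH →ₐ[k] AG ⊗[k] AH).comp (ψ : AG →ₐ[k] AH))
      (fun _ _ => Commute.all _ _) := by
  refine Algebra.TensorProduct.ext' fun x y => ?_
  simp

open Algebra.TensorProduct in
theorem pt_rho : CoactBr.pt (rho ψ) =
    CoactBr.pt (includeLeft : AG →ₐ[k] AG ⊗[k] AH) *
      CoactBr.pt ((includeRight : AH →ₐ[k] AG ⊗[k] AH).comp (ψ : AG →ₐ[k] AH)) := by
  rw [CoactBr.pt_mul_pt, rho, map_eq_lift]

open Algebra.TensorProduct in
theorem surjective_galMap₀ (hψ : Function.Surjective ψ) :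
    letI := GLin.comodAlong ψ (HopfRep.Comod.regular (k := k) (A := AG))
    ∀ [GLin.IsCoactAlg k AH AG], Function.Surjective (galMap₀ k AH AG) := by
  letI := GLin.comodAlong ψ (HopfRep.Comod.regular (k := k) (A := AG))
  intro _
  let F : AG ⊗[k] AG →ₐ[k] AG ⊗[k] AG :=
    lift includeLeft (Bialgebra.comulAlgHom k AG) fun _ _ => Commute.all _ _
  let g : AG →ₐ[k] AG ⊗[k] AG :=
    (lift ((includeLeft : AG →ₐ[k] AG ⊗[k] AG).comp (HopfAlgebra.antipodeAlgHom k AG)) includeRight
      fun _ _ => Commute.all _ _).comp (Bialgebra.comulAlgHom k AG)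
  have hF : Function.Surjective F := by
    have hFL : F.comp includeLeft = includeLeft := lift_comp_includeLeft _ _ _
    have hFR : F.comp includeRight = Bialgebra.comulAlgHom k AG := lift_comp_includeRight' _ _ _
    have hg : F.comp g = includeRight := by
      apply CoactBr.pt_injective
      have hΔ : CoactBr.pt (Bialgebra.comulAlgHom k AG) = CoactBr.pt (includeLeft : AG →ₐ[k] AG ⊗[k] AG) *
          CoactBr.pt (includeRight : AG →ₐ[k] AG ⊗[k] AG) := by
        rw [CoactBr.pt_mul_pt,
          show lift (includeLeft : AG →ₐ[k] AG ⊗[k] AG) includeRight (fun _ _ => Commute.all _ _) =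
            AlgHom.id k _ from Algebra.TensorProduct.ext' fun x y => by simp, AlgHom.id_comp]
      have hpg : CoactBr.pt g = (CoactBr.pt (includeLeft : AG →ₐ[k] AG ⊗[k] AG))⁻¹ *
          CoactBr.pt (includeRight : AG →ₐ[k] AG ⊗[k] AG) := by
        rw [CoactBr.pt_inv, CoactBr.pt_mul_pt]
      rw [CoactBr.pt_comp, hpg, MonObj.comp_mul, GrpObj.comp_inv, ← CoactBr.pt_comp, ← CoactBr.pt_comp, hFL, hFR,
        hΔ, inv_mul_cancel_left]
    intro z
    induction z using TensorProduct.induction_on with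
    | zero => exact ⟨0, map_zero _⟩
    | tmul x y =>
      refine ⟨x ⊗ₜ 1 * g y, ?_⟩
      rw [map_mul, show F (g y) = (1 : AG) ⊗ₜ[k] y from DFunLike.congr_fun hg y]
      simp [F, Algebra.TensorProduct.tmul_mul_tmul]
    | add p q hp hq =>
      obtain ⟨a, rfl⟩ := hp
      obtain ⟨b, rfl⟩ := hq
      exact ⟨a + b, map_add _ _ _⟩
  have e : galMap₀ k AH AG = (Algebra.TensorProduct.map (AlgHom.id k AG) (ψ : AG →ₐ[k] AH)).comp F := by
    refine Algebra.TensorProduct.ext' fun x y => ?_
    rw [galMap₀_tmul, AlgHom.comp_apply, lift_tmul, map_mul, includeLeft_apply, Algebra.TensorProduct.map_tmul, map_one]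
    rfl
  rw [e, AlgHom.coe_comp]
  exact (Algebra.TensorProduct.map_surjective _ _ Function.surjective_id hψ).comp hF

open Algebra.TensorProduct in
/-- The identification `G ×ₖ H ≅ Spec (AG ⊗ AH)` carries the two maps to `G` to `Spec` of the inclusion and
the coaction. -/
theorem exists_iso_tensor :
    ∃ e : CoactBr.sp k (AG ⊗[k] AH) ≅ CoactBr.sp k AG ⊗ CoactBr.sp k AH,
      e.hom ≫ fst _ _ = CoactBr.pt (includeLeft : AG →ₐ[k] AG ⊗[k] AH) ∧
      e.hom ≫ (CoactBr.sp k AG ◁ CoactBr.pt (ψ : AG →ₐ[k] AH)) ≫ μ[CoactBr.sp k AG] = CoactBr.pt (rho ψ) := by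
  have hl := CoactBr.lift_pt_pt (R := k) (includeLeft : AG →ₐ[k] AG ⊗[k] AH)
    (includeRight : AH →ₐ[k] AG ⊗[k] AH)
  rw [show lift (includeLeft : AG →ₐ[k] AG ⊗[k] AH) includeRight (fun _ _ => Commute.all _ _) =
    AlgHom.id k _ from Algebra.TensorProduct.ext' fun x y => by simp, CoactBr.pt_id] at hl
  let m := Functor.LaxMonoidal.μ (algSpec (CommRingCat.of k)) (op (.of k AG)) (op (.of k AH))
  have hiso : IsIso (CartesianMonoidalCategory.lift
      (CoactBr.pt (includeLeft : AG →ₐ[k] AG ⊗[k] AH)) (CoactBr.pt includeRight)) := by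
    have hm : IsIso m := (Functor.Monoidal.μIso (algSpec (CommRingCat.of k)) (op (.of k AG)) (op (.of k AH))).isIso_hom
    have hc : IsIso (CartesianMonoidalCategory.lift
        (CoactBr.pt (includeLeft : AG →ₐ[k] AG ⊗[k] AH)) (CoactBr.pt includeRight) ≫ m) := by
      exact hl ▸ (inferInstance : IsIso (𝟙 (CoactBr.sp k (AG ⊗[k] AH))))
    exact @IsIso.of_isIso_comp_right _ _ _ _ _ _ m hm hc
  refine ⟨@asIso _ _ _ _ _ hiso, ?_, ?_⟩ <;> rw [asIso_hom]
  · exact lift_fst _ _
  · rw [lift_whiskerLeft_assoc, ← Hom.mul_def, ← CoactBr.pt_comp, pt_rho]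

open Algebra.TensorProduct in
/-- The spectrum of the invariants of a linearly reductive subgroup presents the quotient. -/
theorem isQuotient_invariants [Algebra.FiniteType k AG] (hH : HopfRep.IsLinearlyReductive k AH)
    (hψ : Function.Surjective ψ) :
    ∃ (B : Subalgebra k AG), RedSub.IsQuotient (CoactBr.pt (ψ : AG →ₐ[k] AH)) (CoactBr.pt B.val) := by
  letI := GLin.comodAlong ψ (HopfRep.Comod.regular (k := k) (A := AG))
  haveI : GLin.IsCoactAlg k AH AG :=
    GLin.isCoactAlg_comodAlong ψ (HopfRep.Comod.regular (k := k) (A := AG))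
      ⟨map_one (Bialgebra.comulAlgHom k AG), map_mul (Bialgebra.comulAlgHom k AG)⟩
  obtain ⟨α, hα, h1⟩ := exists_integral_of_isLinearlyReductive hH
  obtain ⟨hff, hbij⟩ := galois hα h1 (surjective_galMap₀ ψ hψ)
  haveI := hff
  haveI : IsNoetherianRing AG := Algebra.FiniteType.isNoetherianRing k AG
  let B := GLin.invariants k AH AG
  haveI : IsNoetherianRing B := isNoetherianRing_invariants hα h1
  haveI : Algebra.FiniteType B AG := Algebra.FiniteType.of_restrictScalars_finiteType k B AG
  refine ⟨B, ?_, ?_, ?_, ?_⟩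
  · exact ⟨PrimeSpectrum.comap_surjective_of_faithfullyFlat (A := B) (B := AG)⟩
  · refine (HasRingHomProperty.Spec_iff (P := @AlgebraicGeometry.Flat)).mpr ?_
    show (algebraMap B AG).Flat
    exact RingHom.flat_algebraMap_iff.mpr inferInstance
  · refine (HasRingHomProperty.Spec_iff (P := @LocallyOfFinitePresentation)).mpr ?_
    show (algebraMap B AG).FinitePresentation
    exact RingHom.finitePresentation_algebraMap.mpr (Algebra.FinitePresentation.of_finiteType.mp inferInstance)
  · let β : AG ⊗[B] AG ≃+* AG ⊗[k] AH :=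
      RingEquiv.ofBijective (galMap k AH AG).toRingHom hbij
    have sq : IsPushout (CommRingCat.ofHom (algebraMap B AG)) (CommRingCat.ofHom (algebraMap B AG))
        (CommRingCat.ofHom (includeLeft : AG →ₐ[k] AG ⊗[k] AH).toRingHom)
        (CommRingCat.ofHom (rho ψ).toRingHom) :=
      (CommRingCat.isPushout_tensorProduct B AG AG).of_iso (Iso.refl _) (Iso.refl _) (Iso.refl _)
        β.toCommRingCatIso (by simp) (by simp)
        (CommRingCat.hom_ext (RingHom.ext fun x => by
          show galMap k AH AG (x ⊗ₜ 1) = x ⊗ₜ (1 : AH)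
          rw [galMap_tmul, GLin.IsCoactAlg.coact_one, _root_.mul_one]))
        (CommRingCat.hom_ext (RingHom.ext fun x => by
          show galMap k AH AG (1 ⊗ₜ x) = rho ψ x
          rw [galMap_tmul, ← Algebra.TensorProduct.one_def, _root_.one_mul]
          rfl))
    have h' := isPullback_SpecMap_of_isPushout _ _ _ _ sq
    obtain ⟨e, he1, he2⟩ := exists_iso_tensor ψ
    have hP : IsPullback (CoactBr.pt (includeLeft : AG →ₐ[k] AG ⊗[k] AH)) (CoactBr.pt (rho ψ))
        (CoactBr.pt B.val) (CoactBr.pt B.val) :=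
      IsPullback.of_map (Over.forget _) (Over.OverMorphism.ext h'.w) h'
    exact hP.of_iso e (Iso.refl _) (Iso.refl _) (Iso.refl _)
      (by rw [Iso.refl_hom, Category.comp_id]; exact he1.symm)
      (by rw [Iso.refl_hom, Category.comp_id]; exact he2.symm) (by simp) (by simp)

/-- Any two fppf quotients of a group by a subgroup are isomorphic. -/
theorem exists_iso_of_isQuotient {G H Q Q' : Over (Spec (CommRingCat.of k))} [GrpObj G] [GrpObj H]
    {i : H ⟶ G} {q : G ⟶ Q} {q' : G ⟶ Q'} (h : RedSub.IsQuotient i q) (h' : RedSub.IsQuotient i q') :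
    ∃ e : Q ≅ Q', q ≫ e.hom = q' := by
  obtain ⟨h1, h2, h3, sq⟩ := h
  obtain ⟨h1', h2', h3', sq'⟩ := h'
  obtain ⟨a, ha⟩ := GrpSchLib.OrbitImmersion.exists_desc sq q' sq'.w
  obtain ⟨b, hb⟩ := GrpSchLib.OrbitImmersion.exists_desc sq' q sq.w
  haveI : Epi q := (Over.forget _).epi_of_epi_map (show Epi q.left from inferInstance)
  haveI : Epi q' := (Over.forget _).epi_of_epi_map (show Epi q'.left from inferInstance)
  exact ⟨⟨a, b, by rw [← cancel_epi q, reassoc_of% ha, hb, Category.comp_id],
    by rw [← cancel_epi q', reassoc_of% hb, ha, Category.comp_id]⟩, ha⟩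

end Groth.Agent.HopfGalois
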