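import Groth.Agent.ComodLib.Invariants
import Groth.Agent.ComodLib.Integral
import Mathlib.RingTheory.Flat.FaithfullyFlat.Basic
import Mathlib.LinearAlgebra.TensorProduct.Tower
import Mathlib.LinearAlgebra.TensorProduct.Free

/-!
# Free coactions of linearly reductive Hopf algebras are Galois
-/

universe u

open TensorProduct

namespace Groth.Agent.HopfGalois

open ComodLib HopfRep

section

variable (k : Type u) [Field k] (H : Type u) [CommRing H] [HopfAlgebra k H]
  (A : Type u) [CommRing A] [Algebra k A] [HopfRep.Comod k H A] [GLin.IsCoactAlg k H A]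

/-- `x ⊗ y ↦ (x ⊗ 1) ρ(y)` over the ground field. -/
noncomputable def galMap₀ : A ⊗[k] A →ₐ[k] A ⊗[k] H :=
  Algebra.TensorProduct.lift Algebra.TensorProduct.includeLeft (GLin.coactAlgHom k H A) fun _ _ => .all _ _

theorem coact_invariant (b : GLin.invariants k H A) :
    GLin.coactAlgHom k H A (b : A) = (b : A) ⊗ₜ[k] (1 : H) := b.2

/-- The coaction as an algebra map over the invariants. -/
noncomputable def coactB : A →ₐ[GLin.invariants k H A] A ⊗[k] H :=
  { (GLin.coactAlgHom k H A).toRingHom with
    commutes' := fun b => coact_invariant k H A b }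

/-- `x ⊗ y ↦ (x ⊗ 1) ρ(y)` over the invariants. -/
noncomputable def galMap : A ⊗[GLin.invariants k H A] A →ₐ[GLin.invariants k H A] A ⊗[k] H :=
  Algebra.TensorProduct.lift Algebra.TensorProduct.includeLeft (coactB k H A) fun _ _ => .all _ _

theorem galMap₀_tmul (x y : A) :
    galMap₀ k H A (x ⊗ₜ y) = x ⊗ₜ[k] (1 : H) * Comod.coact (k := k) (A := H) y := rfl

theorem galMap_tmul (x y : A) :
    galMap k H A (x ⊗ₜ y) = x ⊗ₜ[k] (1 : H) * Comod.coact (k := k) (A := H) y := rfl

/-- The canonical map `A ⊗ₖ A → A ⊗ A` over the invariants. -/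
noncomputable def toB : A ⊗[k] A →ₗ[k] A ⊗[GLin.invariants k H A] A :=
  TensorProduct.lift (LinearMap.mk₂ k (fun x y => x ⊗ₜ[GLin.invariants k H A] y) (fun _ _ _ => add_tmul _ _ _)
    (fun _ _ _ => (smul_tmul' _ _ _).symm) (fun _ _ _ => tmul_add _ _ _) (fun _ _ _ => tmul_smul _ _ _))

theorem toB_tmul (x y : A) : toB k H A (x ⊗ₜ y) = x ⊗ₜ[GLin.invariants k H A] y := rfl

theorem galMap_toB (w : A ⊗[k] A) : galMap k H A (toB k H A w) = galMap₀ k H A w := by
  induction w using TensorProduct.induction_on with
  | zero => simp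
  | tmul x y => rfl
  | add p q hp hq => simp only [map_add, hp, hq]

/-- `assoc⁻¹ ∘ (id ⊗ Δ)` commutes with left multiplication by `a ⊗ 1`. -/
theorem assoc_comul_mul (a : A) (z : A ⊗[k] H) :
    (TensorProduct.assoc k A H H).symm
        (LinearMap.lTensor A (Coalgebra.comul (R := k) (A := H)) (a ⊗ₜ[k] (1 : H) * z)) =
      LinearMap.rTensor H (LinearMap.mulLeft k (a ⊗ₜ[k] (1 : H)))
        ((TensorProduct.assoc k A H H).symm (LinearMap.lTensor A (Coalgebra.comul (R := k) (A := H)) z)) := by
  induction z using TensorProduct.induction_on with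
  | zero => simp
  | tmul c h =>
    rw [Algebra.TensorProduct.tmul_mul_tmul, one_mul, LinearMap.lTensor_tmul, LinearMap.lTensor_tmul]
    induction Coalgebra.comul (R := k) (A := H) h using TensorProduct.induction_on with
    | zero => simp
    | tmul p q => simp [Algebra.TensorProduct.tmul_mul_tmul]
    | add p q hp hq => simp only [tmul_add, map_add, hp, hq]
  | add p q hp hq => simp only [mul_add, map_add, hp, hq]

theorem slice_tmul_one_mul (α : H →ₗ[k] k) (x : A) (z : A ⊗[k] H) :
    slice α (x ⊗ₜ[k] (1 : H) * z) = x * slice α z := by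
  induction z using TensorProduct.induction_on with
  | zero => simp
  | tmul c h => simp [Algebra.TensorProduct.tmul_mul_tmul]
  | add p q hp hq => simp only [mul_add, map_add, hp, hq]

variable {k H A} {α : H →ₗ[k] k}

theorem rey_eq_slice (hα : IsIntegral k α) (h1 : α 1 = 1) (v : A) :
    rey α v = slice α (Comod.coact (k := k) (A := H) v) := by
  rw [rey, comp_antipode_eq hα h1, actF_apply]

/-- The Reynolds operator with values in the invariants. -/
noncomputable def reyB (hα : IsIntegral k α) : A →ₗ[k] GLin.invariants k H A where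
  toFun v := ⟨rey α v, rey_mem_fixedPts hα v⟩
  map_add' v w := Subtype.ext (map_add (rey α) v w)
  map_smul' c v := Subtype.ext (map_smul (rey α) c v)

/-- The canonical map `a ⊗ h ↦ Σ rey(a y) ⊗ x`, `σ (S h) = Σ x ⊗ y`. -/
noncomputable def splitMap (hα : IsIntegral k α) (σ : H →ₗ[k] A ⊗[k] A) :
    A ⊗[k] H →ₗ[k] GLin.invariants k H A ⊗[k] A :=
  LinearMap.rTensor A (reyB hα ∘ₗ LinearMap.mul' k A) ∘ₗ (TensorProduct.assoc k A A A).symm.toLinearMap ∘ₗ
    LinearMap.lTensor A ((TensorProduct.comm k A A).toLinearMap ∘ₗ σ ∘ₗ HopfAlgebra.antipode k)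

variable (k H A) in
/-- Multiplication `B ⊗ₖ A → A`. -/
noncomputable def mulB : GLin.invariants k H A ⊗[k] A →ₗ[GLin.invariants k H A] A :=
  AlgebraTensorModule.lift (LinearMap.toSpanSingleton (GLin.invariants k H A) (A →ₗ[k] A) LinearMap.id)

theorem mulB_tmul (b : GLin.invariants k H A) (x : A) : mulB k H A (b ⊗ₜ x) = (b : A) * x := rfl

variable (hα : IsIntegral k α) (h1 : α 1 = 1) (σ : H →ₗ[k] A ⊗[k] A)
  (hσ : ∀ h, galMap₀ k H A (σ h) = 1 ⊗ₜ[k] h)

theorem splitMap_mul (b : GLin.invariants k H A) (z : A ⊗[k] H) :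
    splitMap hα σ ((b : A) ⊗ₜ[k] (1 : H) * z) = b • splitMap hα σ z := by
  induction z using TensorProduct.induction_on with
  | zero => simp
  | tmul a h =>
    rw [Algebra.TensorProduct.tmul_mul_tmul, one_mul]
    simp only [splitMap, LinearMap.comp_apply, LinearMap.lTensor_tmul]
    induction (σ (HopfAlgebra.antipode k h)) using TensorProduct.induction_on with
    | zero => simp
    | tmul x y =>
      simp only [LinearEquiv.coe_coe, TensorProduct.comm_tmul, TensorProduct.assoc_symm_tmul,
        LinearMap.rTensor_tmul, LinearMap.comp_apply, LinearMap.mul'_apply]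
      rw [smul_tmul']
      congr 1
      refine Subtype.ext ?_
      show rey α ((b : A) * a * y) = (b : A) * rey α (a * y)
      rw [mul_assoc, mul_comm (b : A), rey_mul_invariant _ b.2, mul_comm]
    | add p q hp hq => simp only [map_add, tmul_add, smul_add, hp, hq]
  | add p q hp hq => simp only [mul_add, map_add, smul_add, hp, hq]

include h1 hσ in
theorem mulB_splitMap_coact (a : A) : mulB k H A (splitMap hα σ (Comod.coact (k := k) (A := H) a)) = a := by
  have key : ∀ z : A ⊗[k] H, mulB k H A (splitMap hα σ z) =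
      slice α (LinearMap.lTensor A (LinearMap.mul' k H ∘ₗ LinearMap.lTensor H (HopfAlgebra.antipode k))
        (TensorProduct.assoc k A H H (LinearMap.rTensor H (Comod.coact (k := k) (A := H)) z))) := by
    intro z
    induction z using TensorProduct.induction_on with
    | zero => simp
    | tmul a h =>
      have e₁ : ∀ w : A ⊗[k] A, mulB k H A (LinearMap.rTensor A (reyB hα ∘ₗ LinearMap.mul' k A)
          ((TensorProduct.assoc k A A A).symm (a ⊗ₜ (TensorProduct.comm k A A w)))) =
          slice α (galMap₀ k H A w * Comod.coact (k := k) (A := H) a) := by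
        intro w
        induction w using TensorProduct.induction_on with
        | zero => simp
        | tmul x y =>
          simp only [TensorProduct.comm_tmul, TensorProduct.assoc_symm_tmul, LinearMap.rTensor_tmul,
            LinearMap.comp_apply, LinearMap.mul'_apply]
          rw [mulB_tmul, galMap₀_tmul, mul_assoc, slice_tmul_one_mul, ← GLin.IsCoactAlg.coact_mul,
            mul_comm y a, ← rey_eq_slice hα h1]
          exact mul_comm _ _
        | add p q hp hq => simp only [map_add, tmul_add, add_mul, hp, hq]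
      refine (e₁ _).trans ?_
      simp only [LinearMap.comp_apply, LinearMap.rTensor_tmul]
      rw [hσ]
      induction Comod.coact (k := k) (A := H) a using TensorProduct.induction_on with
      | zero => simp
      | tmul c g => simp [Algebra.TensorProduct.tmul_mul_tmul, mul_comm g]
      | add p q hp hq => simp only [mul_add, add_tmul, map_add, hp, hq]
    | add p q hp hq => simp only [map_add, hp, hq]
  have hc := LinearMap.congr_fun (Comod.coassoc (k := k) (A := H) (V := A)) a
  simp only [LinearMap.comp_apply, LinearEquiv.coe_coe] at hc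
  rw [key, hc, ← LinearMap.comp_apply (f := LinearMap.lTensor A _), ← LinearMap.lTensor_comp, LinearMap.comp_assoc,
    HopfAlgebra.mul_antipode_lTensor_comul, slice_lTensor]
  have : α ∘ₗ Algebra.linearMap k H ∘ₗ Coalgebra.counit (R := k) (A := H) = Coalgebra.counit (R := k) (A := H) := by
    ext h
    simp [Algebra.algebraMap_eq_smul_one, h1]
  rw [this]
  exact actF_counit a

include hα h1 hσ in
theorem projective_of_section : Module.Projective (GLin.invariants k H A) A := by
  let s : A →ₗ[GLin.invariants k H A] GLin.invariants k H A ⊗[k] A :=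
    { toFun := fun a => splitMap hα σ (Comod.coact (k := k) (A := H) a)
      map_add' := fun a b => by simp
      map_smul' := fun b a => by
        rw [RingHom.id_apply, ← splitMap_mul hα σ b, Algebra.smul_def, GLin.IsCoactAlg.coact_mul]
        congr 2
        exact b.2 }
  exact Module.Projective.of_split s (mulB k H A) (LinearMap.ext fun a => mulB_splitMap_coact hα h1 σ hσ a)

include hα h1 hσ in
theorem injective_galMap_of_section : Function.Injective (galMap k H A) := by
  let Ω : (A ⊗[k] H) ⊗[k] H →ₗ[k] A ⊗[GLin.invariants k H A] A :=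
    toB k H A ∘ₗ LinearMap.rTensor A (slice α ∘ₗ LinearMap.mul' k (A ⊗[k] H) ∘ₗ
        LinearMap.lTensor (A ⊗[k] H) (Comod.coact (k := k) (A := H))) ∘ₗ
      (TensorProduct.assoc k (A ⊗[k] H) A A).symm.toLinearMap ∘ₗ
      LinearMap.lTensor (A ⊗[k] H) ((TensorProduct.comm k A A).toLinearMap ∘ₗ σ ∘ₗ HopfAlgebra.antipode k)
  let Ψ : A ⊗[k] H →ₗ[k] A ⊗[GLin.invariants k H A] A :=
    Ω ∘ₗ (TensorProduct.assoc k A H H).symm.toLinearMap ∘ₗ LinearMap.lTensor A (Coalgebra.comul (R := k) (A := H))
  have key : ∀ a b : A, Ψ (galMap k H A (a ⊗ₜ b)) = a ⊗ₜ b := by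
    intro a b
    let Q : GLin.invariants k H A ⊗[k] A →ₗ[k] A ⊗[GLin.invariants k H A] A :=
      toB k H A ∘ₗ LinearMap.rTensor A (LinearMap.mulLeft k a ∘ₗ (GLin.invariants k H A).val.toLinearMap)
    have hQ : ∀ q, Q q = a ⊗ₜ mulB k H A q := by
      intro q
      induction q using TensorProduct.induction_on with
      | zero => simp
      | tmul c x =>
        show (a * (c : A)) ⊗ₜ[GLin.invariants k H A] x = a ⊗ₜ (c • x)
        rw [tmul_smul, smul_tmul', mul_comm]
        rfl
      | add p q hp hq => simp only [map_add, tmul_add, hp, hq]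
    have e : ∀ w : A ⊗[k] H, Ω (LinearMap.rTensor H (LinearMap.mulLeft k (a ⊗ₜ[k] (1 : H)))
        (LinearMap.rTensor H (Comod.coact (k := k) (A := H)) w)) = Q (splitMap hα σ w) := by
      intro w
      induction w using TensorProduct.induction_on with
      | zero => simp
      | tmul c h =>
        simp only [Ω, Q, splitMap, LinearMap.rTensor_tmul, LinearMap.comp_apply, LinearMap.lTensor_tmul]
        induction (σ (HopfAlgebra.antipode k h)) using TensorProduct.induction_on with
        | zero => simp
        | tmul x y =>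
          simp only [LinearEquiv.coe_coe, TensorProduct.comm_tmul, TensorProduct.assoc_symm_tmul,
            LinearMap.rTensor_tmul, LinearMap.comp_apply, LinearMap.lTensor_tmul, LinearMap.mul'_apply,
            LinearMap.mulLeft_apply]
          congr 2
          rw [mul_assoc, slice_tmul_one_mul, ← GLin.IsCoactAlg.coact_mul, ← rey_eq_slice hα h1]
          rfl
        | add p q hp hq => simp only [map_add, tmul_add, hp, hq]
      | add p q hp hq => simp only [map_add, hp, hq]
    have hc := LinearMap.congr_fun (Comod.coassoc (k := k) (A := H) (V := A)) b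
    simp only [LinearMap.comp_apply, LinearEquiv.coe_coe] at hc
    show Ω _ = _
    simp only [LinearMap.comp_apply, LinearEquiv.coe_coe]
    rw [galMap_tmul, assoc_comul_mul, ← hc, LinearEquiv.symm_apply_apply, e, hQ, mulB_splitMap_coact hα h1 σ hσ]
  have hid : ∀ z, Ψ (galMap k H A z) = z := by
    intro z
    induction z using TensorProduct.induction_on with
    | zero => simp
    | tmul a b => exact key a b
    | add p q hp hq => simp only [map_add, hp, hq]
  exact Function.LeftInverse.injective hid

end

variable {k : Type u} [Field k] {H : Type u} [CommRing H] [HopfAlgebra k H]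
  {A : Type u} [CommRing A] [Algebra k A] [HopfRep.Comod k H A] [GLin.IsCoactAlg k H A]
  {α : H →ₗ[k] k}

theorem exists_section (hs : Function.Surjective (galMap₀ k H A)) :
    ∃ σ : H →ₗ[k] A ⊗[k] A, ∀ h, galMap₀ k H A (σ h) = 1 ⊗ₜ[k] h := by
  obtain ⟨s, hs'⟩ := (galMap₀ k H A).toLinearMap.exists_rightInverse_of_surjective (LinearMap.range_eq_top.mpr hs)
  exact ⟨s ∘ₗ TensorProduct.mk k A H 1, fun h => LinearMap.congr_fun hs' _⟩

/-- A free coaction of a linearly reductive Hopf algebra has a faithfully flat Galois extension of invariants. -/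
theorem galois (hα : IsIntegral k α) (h1 : α 1 = 1) (hs : Function.Surjective (galMap₀ k H A)) :
    Module.FaithfullyFlat (GLin.invariants k H A) A ∧ Function.Bijective (galMap k H A) := by
  obtain ⟨σ, hσ⟩ := exists_section hs
  haveI := projective_of_section hα h1 σ hσ
  refine ⟨⟨fun m hm htop => hm.ne_top ?_⟩, injective_galMap_of_section hα h1 σ hσ, fun z => ?_⟩
  · rw [← comap_map_val hα h1 m, Ideal.eq_top_iff_one, Ideal.mem_comap]
    have h : (1 : A) ∈ (m • ⊤ : Submodule (GLin.invariants k H A) A) := by
      rw [htop]; exact Submodule.mem_top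
    rw [Ideal.smul_top_eq_map] at h
    rw [map_one]
    exact h
  · obtain ⟨w, hw⟩ := hs z
    exact ⟨toB k H A w, by rw [galMap_toB, hw]⟩

end Groth.Agent.HopfGalois
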