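import Groth.Agent.HopfGalois.Quot
import Groth.Agent.ComodLib.MatrixComod
import Groth.Agent.ComodLib.Criterion
import Mathlib.AlgebraicGeometry.AffineScheme

/-!
# A subgroup of a linearly reductive group with affine quotient is linearly reductive
-/

universe u

open CategoryTheory MonoidalCategory CartesianMonoidalCategory AlgebraicGeometry MonObj Opposite
open TensorProduct

namespace Groth.Agent.HopfGalois

open ComodLib HopfRep

/-- A cartesian square of affine schemes comes from a tensor product. -/
theorem exists_bijective_of_isPullback {C A D : Type u} [CommRing C] [CommRing A] [CommRing D] [Algebra C A]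
    (f g : A →+* D)
    (sq : IsPullback (Spec.map (CommRingCat.ofHom f)) (Spec.map (CommRingCat.ofHom g))
      (Spec.map (CommRingCat.ofHom (algebraMap C A))) (Spec.map (CommRingCat.ofHom (algebraMap C A)))) :
    ∃ β : A ⊗[C] A →+* D, Function.Bijective β ∧ ∀ x y, β (x ⊗ₜ y) = f x * g y := by
  have sqT := isPullback_SpecMap_of_isPushout _ _ _ _ (CommRingCat.isPushout_tensorProduct C A A)
  let e := sq.isoIsPullback _ _ sqT
  let b := Spec.preimage e.hom
  have hb : Spec.map b = e.hom := Spec.map_preimage _
  haveI : IsIso (Scheme.Spec.map b.op) := by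
    show IsIso (Spec.map b)
    rw [hb]; infer_instance
  haveI : IsIso b.op := isIso_of_reflects_iso _ Scheme.Spec
  haveI : IsIso b := isIso_of_op b
  refine ⟨b.hom, (ConcreteCategory.bijective_of_isIso b : _), fun x y => ?_⟩
  have e1 : CommRingCat.ofHom Algebra.TensorProduct.includeLeftRingHom ≫ b = CommRingCat.ofHom f :=
    Spec.map_injective (by rw [Spec.map_comp, hb]; exact sq.isoIsPullback_hom_fst _ _ sqT)
  have e2 : CommRingCat.ofHom (Algebra.TensorProduct.includeRight (R := C) (A := A) (B := A)).toRingHom ≫ b =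
      CommRingCat.ofHom g :=
    Spec.map_injective (by rw [Spec.map_comp, hb]; exact sq.isoIsPullback_hom_snd _ _ sqT)
  have h1 := congrArg (fun φ => φ.hom x) e1
  have h2 := congrArg (fun φ => φ.hom y) e2
  have h1' : b.hom (x ⊗ₜ[C] (1 : A)) = f x := h1
  have h2' : b.hom ((1 : A) ⊗ₜ[C] y) = g y := h2
  rw [← h1', ← h2', ← map_mul, Algebra.TensorProduct.tmul_mul_tmul, _root_.mul_one, _root_.one_mul]

/-- Membership in a range descends along a faithfully flat algebra. -/
theorem mem_range_of_faithfullyFlat {C A : Type u} [CommRing C] [CommRing A] [Algebra C A]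
    [Module.FaithfullyFlat C A] {M N : Type u} [AddCommGroup M] [Module C M] [AddCommGroup N] [Module C N]
    (T : M →ₗ[C] N) (x : N) (h : (1 : A) ⊗ₜ[C] x ∈ LinearMap.range (T.lTensor A)) : x ∈ LinearMap.range T := by
  obtain ⟨z, hz⟩ := h
  have h0 : (1 : A) ⊗ₜ[C] (LinearMap.range T).mkQ x = 0 := by
    rw [← LinearMap.lTensor_tmul, ← hz, ← LinearMap.comp_apply, ← LinearMap.lTensor_comp,
      LinearMap.range_mkQ_comp, LinearMap.lTensor_zero, LinearMap.zero_apply]
  refine (Submodule.Quotient.mk_eq_zero _).mp ?_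
  exact Module.FaithfullyFlat.tensorProduct_mk_injective (A := C) (B := A) _ (h0.trans (tmul_zero _ _).symm)

section Matrix

variable {k : Type u} [Field k] {AH : Type u} [CommRing AH] [HopfAlgebra k AH]
  {X : Type} [Fintype X] [DecidableEq X]

/-- `Σ (1 ⊗ a m i) Δ(S (a i j)) = S (a m j) ⊗ 1`. -/
theorem sum_mul_comul_antipode {a : X → X → AH} (h : IsComodMatrix k a) (m j : X) :
    ∑ i, Coalgebra.comul (R := k) (HopfAlgebraStruct.antipode (R := k) (a i j)) * ((1 : AH) ⊗ₜ[k] a m i) =
      HopfAlgebraStruct.antipode (R := k) (a m j) ⊗ₜ[k] (1 : AH) := by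
  let S : Matrix X X AH := fun i j => HopfAlgebraStruct.antipode (R := k) (a i j)
  let a' : Matrix X X AH := a
  have h1 : S * a' = 1 := by
    refine Matrix.ext fun t s => ?_
    have := HopfAlgebra.mul_antipode_rTensor_comul_apply (R := k) (a t s)
    rw [h.comul, h.counit, map_sum, map_sum] at this
    simpa [Matrix.mul_apply, Matrix.one_apply, S, a', apply_ite (algebraMap k AH)] using this
  have h2 : a' * S = 1 := by
    refine Matrix.ext fun t s => ?_
    have := HopfAlgebra.mul_antipode_lTensor_comul_apply (R := k) (a t s)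
    rw [h.comul, h.counit, map_sum, map_sum] at this
    simpa [Matrix.mul_apply, Matrix.one_apply, S, a', apply_ite (algebraMap k AH)] using this
  let δ : AH →+* AH ⊗[k] AH := (Bialgebra.comulAlgHom k AH).toRingHom
  let l : AH →+* AH ⊗[k] AH := Algebra.TensorProduct.includeLeftRingHom
  let r : AH →+* AH ⊗[k] AH := (Algebra.TensorProduct.includeRight : AH →ₐ[k] AH ⊗[k] AH).toRingHom
  have hd : a'.map δ = a'.map l * a'.map r := by
    refine Matrix.ext fun t s => ?_
    simp only [Matrix.map_apply, Matrix.mul_apply, a']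
    refine (h.comul t s).trans (Finset.sum_congr rfl fun i _ => ?_)
    simp [l, r, Algebra.TensorProduct.tmul_mul_tmul]
  have hl : S.map l * a'.map l = 1 := by rw [← Matrix.map_mul, h1, Matrix.map_one _ (map_zero l) (map_one l)]
  have key : a'.map r * S.map δ = S.map l := by
    calc a'.map r * S.map δ = (S.map l * a'.map l) * (a'.map r * S.map δ) := by rw [hl, Matrix.one_mul]
      _ = S.map l * ((a'.map l * a'.map r) * S.map δ) := by simp only [Matrix.mul_assoc]
      _ = S.map l := by
        rw [← hd, ← Matrix.map_mul, h2, Matrix.map_one _ (map_zero δ) (map_one δ), Matrix.mul_one]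
  have := congrFun (congrFun key m) j
  simp only [Matrix.mul_apply, Matrix.map_apply] at this
  refine (Finset.sum_congr rfl fun i _ => ?_).trans this
  exact mul_comm _ _

end Matrix

variable {k : Type u} [Field k] {AG AH : Type u} [CommRing AG] [HopfAlgebra k AG]
  [CommRing AH] [HopfAlgebra k AH] (ψ : AG →ₐc[k] AH)

theorem assoc_comul_rho (b : AG) :
    (TensorProduct.assoc k AG AH AH).symm
        (LinearMap.lTensor AG (Coalgebra.comul (R := k) (A := AH)) (rho ψ b)) =
      LinearMap.rTensor AH (rho ψ).toLinearMap (rho ψ b) := by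
  letI := GLin.comodAlong ψ (HopfRep.Comod.regular (k := k) (A := AG))
  have hc := LinearMap.congr_fun (HopfRep.Comod.coassoc (k := k) (A := AH) (V := AG)) b
  simp only [LinearMap.comp_apply, LinearEquiv.coe_coe] at hc
  exact (congrArg (TensorProduct.assoc k AG AH AH).symm hc.symm).trans (LinearEquiv.symm_apply_apply _ _)

theorem lid_rTensor_rho {α : AG →ₗ[k] k} (hα : IsIntegral k α) (x : AG) :
    TensorProduct.lid k AH (LinearMap.rTensor AH α (rho ψ x)) = α x • (1 : AH) := by
  have e : ∀ z : AG ⊗[k] AG, TensorProduct.lid k AH (LinearMap.rTensor AH α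
      (Algebra.TensorProduct.map (AlgHom.id k AG) (ψ : AG →ₐ[k] AH) z)) =
        (ψ : AG →ₐ[k] AH) (TensorProduct.lid k AG (LinearMap.rTensor AG α z)) := by
    intro z
    induction z using TensorProduct.induction_on with
    | zero => simp
    | tmul a b => simp
    | add p q hp hq => simp only [map_add, hp, hq]
  refine (e _).trans ?_
  show (ψ : AG →ₐ[k] AH) (TensorProduct.lid k AG (LinearMap.rTensor AG α (Coalgebra.comul (R := k) x))) = _
  rw [hα x, TensorProduct.lid_tmul, map_smul, map_one]

/-- A subgroup of a linearly reductive group whose quotient map is a faithfully flat Galois extension is linearly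
reductive. -/
theorem isLinearlyReductive_of_galois {C : Type u} [CommRing C] [Algebra k C] [Algebra C AG]
    [IsScalarTower k C AG] [Module.FaithfullyFlat C AG] {α : AG →ₗ[k] k} (hα : IsIntegral k α) (h1 : α 1 = 1)
    (β : AG ⊗[C] AG →+* AG ⊗[k] AH) (hβ : Function.Bijective β)
    (hβt : ∀ x y, β (x ⊗ₜ y) = x ⊗ₜ[k] (1 : AH) * rho ψ y)
    (hinv : ∀ c : C, rho ψ (algebraMap C AG c) = algebraMap C AG c ⊗ₜ[k] (1 : AH)) :
    HopfRep.IsLinearlyReductive k AH := by
  refine ComodLib.isLinearlyReductive_of_hasFixedVectors ?_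
  intro V _ _ _ _ π hsurj hπ
  classical
  letI := GLin.comodAlong ψ (HopfRep.Comod.regular (k := k) (A := AG))
  haveI : GLin.IsCoactAlg k AH AG :=
    GLin.isCoactAlg_comodAlong ψ (HopfRep.Comod.regular (k := k) (A := AG))
      ⟨map_one (Bialgebra.comulAlgHom k AG), map_mul (Bialgebra.comulAlgHom k AG)⟩
  let b := Module.finBasis k V
  let a := matrixOf (A := AH) b
  have hM := isComodMatrix_matrixOf (A := AH) b
  let p : Fin (Module.finrank k V) → k := fun i => π (b i)
  have hp : ∀ j, ∑ i, p i • a i j = p j • (1 : AH) := by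
    intro j
    have h := congrArg (TensorProduct.lid k AH) (LinearMap.congr_fun hπ (b j))
    simpa [coact_matrixOf b, a, p] using h
  obtain ⟨v₀, hv₀⟩ := hsurj 1
  let c : Fin (Module.finrank k V) → k := fun j => b.repr v₀ j
  have hcp : ∑ j, c j * p j = 1 := by
    have h := congrArg π (b.sum_repr v₀)
    rw [map_sum, hv₀] at h
    simpa [c, p] using h
  let R : AH → AG →ₗ[C] AG ⊗[k] AH := fun h =>
    { toFun := fun x => rho ψ x * ((1 : AG) ⊗ₜ[k] h)
      map_add' := fun x y => by rw [map_add, add_mul]
      map_smul' := fun t x => by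
        rw [RingHom.id_apply, Algebra.smul_def, map_mul, hinv, _root_.mul_assoc, Algebra.smul_def]
        rfl }
  let L : AG →ₗ[C] AG ⊗[k] AH :=
    (Algebra.TensorProduct.includeLeft : AG →ₐ[C] AG ⊗[k] AH).toLinearMap
  let T : (Fin (Module.finrank k V) → AG) →ₗ[C] (Fin (Module.finrank k V) → AG ⊗[k] AH) × AG :=
    (LinearMap.pi fun m => (∑ i, R (a m i) ∘ₗ LinearMap.proj i) - L ∘ₗ LinearMap.proj m).prod
      (∑ i, p i • LinearMap.proj i)
  let βk : AG ⊗[C] AG →ₗ[k] AG ⊗[k] AH :=
    { toFun := β
      map_add' := map_add β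
      map_smul' := fun t w => by
        rw [RingHom.id_apply]
        induction w using TensorProduct.induction_on with
        | zero => simp
        | tmul x y => rw [smul_tmul', hβt, hβt, ← smul_tmul', smul_mul_assoc]
        | add x y hx hy => simp only [smul_add, map_add, hx, hy] }
  let Φ : AG ⊗[C] (AG ⊗[k] AH) →ₗ[k] (AG ⊗[k] AH) ⊗[k] AH :=
    LinearMap.rTensor AH βk ∘ₗ
      ((AlgebraTensorModule.assoc k C C AG AG AH).restrictScalars k).symm.toLinearMap
  have hΦ : Function.Injective Φ :=
    (Module.Flat.rTensor_preserves_injective_linearMap βk hβ.1).comp (LinearEquiv.injective _)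
  let J : AH ⊗[k] AH →ₐ[k] (AG ⊗[k] AH) ⊗[k] AH :=
    Algebra.TensorProduct.map Algebra.TensorProduct.includeRight (AlgHom.id k AH)
  let s : Fin (Module.finrank k V) → AH := fun i =>
    ∑ j, c j • HopfAlgebraStruct.antipode (R := k) (a i j)
  choose w hw using fun i => hβ.2 ((1 : AG) ⊗ₜ[k] s i)
  have hΦR : ∀ h z, Φ (LinearMap.lTensor AG (R h) z) =
      (TensorProduct.assoc k AG AH AH).symm
        (LinearMap.lTensor AG (Coalgebra.comul (R := k) (A := AH)) (β z)) *
        ((1 : AG ⊗[k] AH) ⊗ₜ[k] h) := by
    intro h z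
    induction z using TensorProduct.induction_on with
    | zero => simp
    | tmul x y =>
      rw [hβt, assoc_comul_mul, assoc_comul_rho, LinearMap.lTensor_tmul]
      show Φ (x ⊗ₜ (rho ψ y * ((1 : AG) ⊗ₜ[k] h))) = _
      induction rho ψ y using TensorProduct.induction_on with
      | zero => simp
      | tmul q g =>
        rw [Algebra.TensorProduct.tmul_mul_tmul, _root_.mul_one]
        show βk (x ⊗ₜ[C] q) ⊗ₜ[k] (g * h) = _
        simp [βk, hβt, Algebra.TensorProduct.tmul_mul_tmul]
      | add q g hq hg => simp only [add_mul, tmul_add, map_add, hq, hg]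
    | add x y hx hy => simp only [map_add, add_mul, hx, hy]
  have hΦL : ∀ z, Φ (LinearMap.lTensor AG L z) = β z ⊗ₜ[k] (1 : AH) := by
    intro z
    induction z using TensorProduct.induction_on with
    | zero => simp
    | tmul x y => rfl
    | add x y hx hy => simp only [map_add, add_tmul, hx, hy]
  have hcomp : ∀ m, ∑ i, LinearMap.lTensor AG (R (a m i)) (w i) - LinearMap.lTensor AG L (w m) = 0 := by
    intro m
    apply hΦ
    rw [map_sub, map_sum, map_zero, hΦL, hw, sub_eq_zero]
    have e₁ : ∀ i, Φ (LinearMap.lTensor AG (R (a m i)) (w i)) =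
        J (Coalgebra.comul (R := k) (s i) * ((1 : AH) ⊗ₜ[k] a m i)) := by
      intro i
      rw [hΦR, hw, map_mul, LinearMap.lTensor_tmul]
      congr 1
    simp only [e₁]
    rw [← map_sum J]
    have : ∑ i, Coalgebra.comul (R := k) (s i) * ((1 : AH) ⊗ₜ[k] a m i) = s m ⊗ₜ[k] (1 : AH) := by
      simp only [s, map_sum, map_smul, Finset.sum_mul, smul_mul_assoc, sum_tmul, ← smul_tmul']
      rw [Finset.sum_comm]
      simp only [← Finset.smul_sum, sum_mul_comul_antipode hM, a]
    rw [this]
    rfl
  have hsnd : ∑ i, p i • w i = 1 := by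
    apply hβ.1
    show βk _ = β 1
    rw [map_sum, map_one]
    simp only [map_smul]
    show ∑ i, p i • β (w i) = 1
    simp only [hw, ← tmul_smul, ← tmul_sum]
    rw [Algebra.TensorProduct.one_def]
    congr 1
    simp only [s, Finset.smul_sum]
    rw [Finset.sum_comm]
    simp only [smul_comm (p _) (c _), ← Finset.smul_sum, ← map_smul, ← map_sum, hp]
    simp only [map_smul, HopfAlgebra.antipode_one, smul_smul, ← Finset.sum_smul, hcp, one_smul]
  have hmem : ((1 : AG) ⊗ₜ[C] ((0, 1) : (Fin (Module.finrank k V) → AG ⊗[k] AH) × AG)) ∈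
      LinearMap.range (T.lTensor AG) := by
    refine ⟨∑ i, LinearMap.lTensor AG (LinearMap.single C (fun _ => AG) i) (w i), ?_⟩
    have hext : ∀ z z' : AG ⊗[C] ((Fin (Module.finrank k V) → AG ⊗[k] AH) × AG),
        (∀ m, LinearMap.lTensor AG (LinearMap.proj m ∘ₗ LinearMap.fst C _ _) z =
          LinearMap.lTensor AG (LinearMap.proj m ∘ₗ LinearMap.fst C _ _) z') →
        LinearMap.lTensor AG (LinearMap.snd C _ _) z = LinearMap.lTensor AG (LinearMap.snd C _ _) z' → z = z' := by
      intro z z' hm hs
      have hid : (LinearMap.id : ((Fin (Module.finrank k V) → AG ⊗[k] AH) × AG) →ₗ[C] _) =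
          (∑ m, (LinearMap.inl C _ _ ∘ₗ LinearMap.single C (fun _ => AG ⊗[k] AH) m) ∘ₗ
            (LinearMap.proj m ∘ₗ LinearMap.fst C _ _)) + LinearMap.inr C _ _ ∘ₗ LinearMap.snd C _ _ := by
        refine LinearMap.ext fun q => Prod.ext (funext fun m => ?_) ?_
        · simp [Prod.fst_sum, Finset.sum_apply, Pi.single_apply]
        · simp [Prod.snd_sum]
      rw [← LinearMap.id_apply (R := C) z, ← LinearMap.id_apply (R := C) z', ← LinearMap.lTensor_id, hid]
      simp only [LinearMap.lTensor_add, LinearMap.add_apply, LinearMap.lTensor_comp_apply, hs]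
      congr 1
      simp only [← LinearMap.coe_lTensorHom, map_sum, LinearMap.sum_apply]
      refine Finset.sum_congr rfl fun m _ => ?_
      simp only [LinearMap.coe_lTensorHom, LinearMap.lTensor_comp_apply] at hm ⊢
      rw [hm m]
    refine hext _ _ (fun m => ?_) ?_
    · rw [map_sum, map_sum, LinearMap.lTensor_tmul, show (LinearMap.proj m ∘ₗ LinearMap.fst C _ _)
        ((0, 1) : (Fin (Module.finrank k V) → AG ⊗[k] AH) × AG) = 0 from rfl, tmul_zero, ← hcomp m]
      have : ∀ i, LinearMap.proj m ∘ₗ LinearMap.fst C _ _ ∘ₗ T ∘ₗ LinearMap.single C (fun _ => AG) i =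
          R (a m i) - if i = m then L else 0 := by
        intro i
        refine LinearMap.ext fun x => ?_
        simp [T, Pi.single_apply, apply_ite, eq_comm]
        split_ifs with hmi
        · simp [hmi]
        · simp
      simp only [← LinearMap.lTensor_comp_apply, LinearMap.comp_assoc, this, LinearMap.lTensor_sub,
        LinearMap.sub_apply, Finset.sum_sub_distrib]
      congr 1
      rw [Finset.sum_eq_single m]
      · rw [if_pos rfl]
      · intro i _ hi; rw [if_neg hi, LinearMap.lTensor_zero, LinearMap.zero_apply]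
      · simp
    · rw [map_sum, map_sum, LinearMap.lTensor_tmul]
      have : ∀ i, LinearMap.snd C _ _ ∘ₗ T ∘ₗ LinearMap.single C (fun _ => AG) i =
          p i • (LinearMap.id : AG →ₗ[C] AG) := by
        intro i
        refine LinearMap.ext fun x => ?_
        simp [T, Pi.single_apply]
      simp only [← LinearMap.lTensor_comp_apply, this]
      show _ = (1 : AG) ⊗ₜ[C] (1 : AG)
      rw [← Algebra.TensorProduct.one_def, ← hsnd]
      refine Finset.sum_congr rfl fun i _ => ?_
      induction w i using TensorProduct.induction_on with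
      | zero => simp
      | tmul x y => simp [tmul_smul]
      | add x y hx hy => simp only [map_add, smul_add, hx, hy]
  obtain ⟨f, hf⟩ := mem_range_of_faithfullyFlat T _ hmem
  refine ⟨∑ i, α (f i) • b i, ?_, ?_⟩
  · show HopfRep.Comod.coact (k := k) (A := AH) _ = _ ⊗ₜ[k] (1 : AH)
    have hrow : ∀ m, ∑ i, α (f i) • a m i = α (f m) • (1 : AH) := by
      intro m
      have h : ∑ i, rho ψ (f i) * ((1 : AG) ⊗ₜ[k] a m i) - f m ⊗ₜ[k] (1 : AH) = 0 := by
        have := congrFun (congrArg Prod.fst hf) m
        simpa [T, R, L] using this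
      have e := congrArg (fun z => TensorProduct.lid k AH (LinearMap.rTensor AH α z)) (sub_eq_zero.mp h)
      simp only [map_sum, LinearMap.rTensor_tmul, TensorProduct.lid_tmul] at e
      rw [← e]
      refine Finset.sum_congr rfl fun i _ => ?_
      have em : ∀ z : AG ⊗[k] AH, TensorProduct.lid k AH (LinearMap.rTensor AH α (z * ((1 : AG) ⊗ₜ[k] a m i))) =
          TensorProduct.lid k AH (LinearMap.rTensor AH α z) * a m i := by
        intro z
        induction z using TensorProduct.induction_on with
        | zero => simp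
        | tmul q g => simp [Algebra.TensorProduct.tmul_mul_tmul]
        | add q g hq hg => simp only [map_add, add_mul, hq, hg]
      rw [em, lid_rTensor_rho ψ hα, smul_mul_assoc, _root_.one_mul]
    rw [sum_tmul, map_sum]
    simp only [map_smul, coact_matrixOf b, Finset.smul_sum, ← tmul_smul]
    rw [Finset.sum_comm]
    simp only [← tmul_sum, hrow, smul_tmul, a]
  · have h : ∑ i, p i • f i = 1 := by
      have := congrArg Prod.snd hf
      simpa [T] using this
    have h' := congrArg α h
    rw [map_sum, h1] at h'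
    simp only [map_smul, smul_eq_mul] at h'
    rw [map_sum]
    simp only [map_smul, smul_eq_mul]
    rw [Finset.sum_congr rfl fun i _ => mul_comm (α (f i)) (π (b i))]
    rw [h']
    exact one_ne_zero

end Groth.Agent.HopfGalois
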